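import Cfsg.Agent.Lib.KnownA.PermCert

/-!
Enumerating the products along a stabiliser chain of permutation codes, and recognising membership by sifting.
-/

set_option autoImplicit false

namespace CfsgLib.KnownA.PermCert

variable {n : ℕ}

/-- A property of all words with one letter from each level of the chain. -/
def allWords : List (ℕ × List ℕ) → (List ℕ → Bool) → Bool
  | [], p => p []
  | (_, T) :: L, p => T.all fun c => allWords L fun w => p (c :: w)

/-- Some word along the chain has a property. -/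
def anyWord : List (ℕ × List ℕ) → (List ℕ → Bool) → Bool
  | [], p => p []
  | (_, T) :: L, p => T.any fun c => anyWord L fun w => p (c :: w)

/-- The words along a chain. -/
def IsWord : List (ℕ × List ℕ) → List ℕ → Prop
  | [], w => w = []
  | (_, T) :: L, w => ∃ c ∈ T, ∃ w', IsWord L w' ∧ w = c :: w'

theorem allWords_spec : ∀ {L : List (ℕ × List ℕ)} {p : List ℕ → Bool},
    allWords L p = true → ∀ {w : List ℕ}, IsWord L w → p w = true
  | [], p, h, w, hw => by rw [IsWord] at hw; subst hw; exact h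
  | (b, T) :: L, p, h, w, hw => by
    obtain ⟨c, hc, w', hw', rfl⟩ := hw
    rw [allWords, List.all_eq_true] at h
    exact allWords_spec (h c hc) hw'

theorem anyWord_spec : ∀ {L : List (ℕ × List ℕ)} {p : List ℕ → Bool},
    anyWord L p = true → ∃ w, IsWord L w ∧ p w = true
  | [], p, h => ⟨[], rfl, h⟩
  | (b, T) :: L, p, h => by
    rw [anyWord, List.any_eq_true] at h
    obtain ⟨c, hc, h⟩ := h
    obtain ⟨w, hw, hp⟩ := anyWord_spec h
    exact ⟨c :: w, ⟨c, hc, w, hw, rfl⟩, hp⟩

theorem isWord_valid : ∀ {L : List (ℕ × List ℕ)} {pre : List ℕ}, chainOK n pre L = true →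
    ∀ {w : List ℕ}, IsWord L w → ∀ c ∈ w, valid n c = true
  | [], pre, _, w, hw => by rw [IsWord] at hw; subst hw; simp
  | (b, T) :: L, pre, h, w, hw => by
    obtain ⟨c, hc, w', hw', rfl⟩ := hw
    simp only [chainOK, Bool.and_eq_true, List.all_eq_true] at h
    intro d hd
    rcases List.mem_cons.1 hd with rfl | hd
    · exact (h.1.1.2 _ hc).1
    · exact isWord_valid h.2 hw' d hd

theorem isWord_mem (K : Subgroup (Equiv.Perm (Fin n))) : ∀ {L : List (ℕ × List ℕ)},
    (∀ e ∈ L, ∀ c ∈ e.2, permOf n c ∈ K) → ∀ {w : List ℕ}, IsWord L w → prodW n w ∈ K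
  | [], _, w, hw => by rw [IsWord] at hw; subst hw; exact one_mem K
  | (b, T) :: L, hK, w, hw => by
    obtain ⟨c, hc, w', hw', rfl⟩ := hw
    show permOf n c * prodW n w' ∈ K
    exact mul_mem (hK _ (List.mem_cons_self ..) _ hc)
      (isWord_mem K (fun e he => hK e (List.mem_cons_of_mem _ he)) hw')

/-- The elements given by words. -/
def wordSet (n : ℕ) (L : List (ℕ × List ℕ)) : Set (Equiv.Perm (Fin n)) :=
  {σ | ∃ w, IsWord L w ∧ prodW n w = σ}

theorem fix_of_word : ∀ {L : List (ℕ × List ℕ)} {pre : List ℕ}, chainOK n pre L = true →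
    ∀ {w : List ℕ}, IsWord L w → ∀ a ∈ pre, ∀ h : a < n, prodW n w ⟨a, h⟩ = ⟨a, h⟩
  | [], pre, _, w, hw, a, _, h => by rw [IsWord] at hw; subst hw; rfl
  | (b, T) :: L, pre, hok, w, hw, a, ha, h => by
    obtain ⟨c, hc, w', hw', rfl⟩ := hw
    simp only [chainOK, Bool.and_eq_true, List.all_eq_true] at hok
    show permOf n c (prodW n w' ⟨a, h⟩) = _
    rw [fix_of_word hok.2 hw' a (List.mem_cons_of_mem _ ha) h]
    exact Fin.ext (by
      rw [permOf_val (hok.1.1.2 c hc).1]; exact Nat.eq_of_beq_eq_true ((hok.1.1.2 c hc).2 a ha))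

theorem chainProd_le_wordSet : ∀ {L : List (ℕ × List ℕ)} {pre : List ℕ}, chainOK n pre L = true →
    chainProd L ≤ (wordSet n L).ncard
  | [], pre, _ => (Set.ncard_pos (Set.toFinite _)).2 ⟨1, [], rfl, rfl⟩
  | (b, T) :: L, pre, h => by
    have ih := chainProd_le_wordSet (L := L) (pre := b :: pre)
      (by simp only [chainOK, Bool.and_eq_true] at h; exact h.2)
    have h' := h
    simp only [chainOK, Bool.and_eq_true, List.all_eq_true, List.mem_range, Nat.blt_eq] at h'
    obtain ⟨⟨⟨hb, hT⟩, hd⟩, hL⟩ := h'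
    have hm : ∀ i : Fin T.length, T.getD i 0 ∈ T := fun i => by
      rw [List.getD_eq_getElem _ _ i.2]; exact List.getElem_mem _
    let f : Fin T.length × wordSet n L → wordSet n ((b, T) :: L) := fun p =>
      ⟨permOf n (T.getD p.1 0) * p.2, by
        obtain ⟨w, hw, e⟩ := p.2.2
        exact ⟨_ :: w, ⟨_, hm p.1, w, hw, rfl⟩, by rw [← e]; rfl⟩⟩
    have hf : Function.Injective f := by
      rintro ⟨i, ⟨x, w, hw, hx⟩⟩ ⟨j, ⟨y, v, hv, hy⟩⟩ e
      have e' : permOf n (T.getD i 0) * x = permOf n (T.getD j 0) * y := congrArg Subtype.val e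
      have hxb : x ⟨b, hb⟩ = ⟨b, hb⟩ := hx ▸ fix_of_word hL hw b (List.mem_cons_self ..) hb
      have hyb : y ⟨b, hb⟩ = ⟨b, hb⟩ := hy ▸ fix_of_word hL hv b (List.mem_cons_self ..) hb
      have := congrArg (fun σ : Equiv.Perm (Fin n) => ((σ ⟨b, hb⟩ : Fin n) : ℕ)) e'
      simp only [Equiv.Perm.mul_apply, hxb, hyb] at this
      rw [permOf_val (hT _ (hm i)).1, permOf_val (hT _ (hm j)).1] at this
      have hij : i = j := by
        rcases lt_trichotomy i.val j.val with hlt | he | hlt
        · have h'' := hd j j.2 i hlt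
          rw [this, Nat.beq_refl] at h''
          exact absurd h'' (by decide)
        · exact Fin.ext he
        · have h'' := hd i i.2 j hlt
          rw [this, Nat.beq_refl] at h''
          exact absurd h'' (by decide)
      subst hij
      exact Prod.ext rfl (Subtype.ext (mul_left_cancel e'))
    have hc := Nat.card_le_card_of_injective f hf
    rw [Nat.card_prod, Nat.card_fin, Nat.card_coe_set_eq, Nat.card_coe_set_eq] at hc
    exact le_trans (Nat.mul_le_mul_left _ ih) hc

/-- A group no larger than the chain consists of its words. -/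
theorem exists_word (K : Subgroup (Equiv.Perm (Fin n))) {L : List (ℕ × List ℕ)} {pre : List ℕ}
    (h : chainOK n pre L = true) (hK : ∀ e ∈ L, ∀ c ∈ e.2, permOf n c ∈ K) (hc : Nat.card K ≤ chainProd L)
    {σ : Equiv.Perm (Fin n)} (hσ : σ ∈ K) : ∃ w, IsWord L w ∧ prodW n w = σ := by
  have hsub : wordSet n L ⊆ (K : Set (Equiv.Perm (Fin n))) := by
    rintro _ ⟨w, hw, rfl⟩; exact isWord_mem K hK hw
  have := Set.eq_of_subset_of_ncard_le hsub (by
    rw [← Nat.card_coe_set_eq]; exact hc.trans (chainProd_le_wordSet h)) (Set.toFinite _)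
  show σ ∈ wordSet n L
  rw [this]; exact hσ

/-- Sifting: the target is a word along the chain. -/
def sift (n : ℕ) : List (ℕ × List ℕ) → List ℕ → List ℕ → Bool
  | [], acc, tw => eqW n acc tw
  | (b, T) :: L, acc, tw => T.any fun c => Nat.beq (actW (acc ++ [c]) b) (actW tw b) && sift n L (acc ++ [c]) tw

theorem sift_spec : ∀ {L : List (ℕ × List ℕ)} {acc tw : List ℕ}, sift n L acc tw = true →
    ∃ w, IsWord L w ∧ eqW n (acc ++ w) tw = true
  | [], acc, tw, h => ⟨[], rfl, by rw [List.append_nil]; exact h⟩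
  | (b, T) :: L, acc, tw, h => by
    rw [sift, List.any_eq_true] at h
    obtain ⟨c, hc, h⟩ := h
    rw [Bool.and_eq_true] at h
    obtain ⟨w, hw, e⟩ := sift_spec h.2
    exact ⟨c :: w, ⟨c, hc, w, hw, rfl⟩, by rwa [List.append_assoc, List.singleton_append] at e⟩

/-- The words along a chain closed under some generators bound the group they generate. -/
theorem card_genGroup_le {L : List (ℕ × List ℕ)} {pre gens : List ℕ} (h : chainOK n pre L = true)
    (h1 : sift n L [] [] = true) (hg : gens.all (valid n) = true)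
    (hcl : (gens.all fun g => allWords L fun w => sift n L [] (g :: w)) = true) :
    (genGroup n gens : Set (Equiv.Perm (Fin n))) ⊆ wordSet n L := by
  rw [List.all_eq_true] at hg hcl
  have hset : ∀ {tw}, (∀ c ∈ tw, valid n c = true) → sift n L [] tw = true → prodW n tw ∈ wordSet n L := by
    intro tw htw hs
    obtain ⟨w, hw, e⟩ := sift_spec hs
    exact ⟨w, hw, (eqW_iff (isWord_valid h hw) htw).1 e⟩
  have hone : (1 : Equiv.Perm (Fin n)) ∈ wordSet n L := hset (tw := []) (by simp) h1
  have hmul : ∀ σ ∈ genGroup n gens, ∀ τ ∈ wordSet n L, σ * τ ∈ wordSet n L := by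
    intro σ hσ
    induction hσ using Subgroup.closure_induction with
    | mem s hs =>
      obtain ⟨c, hc, rfl⟩ := hs
      rintro τ ⟨w, hw, rfl⟩
      refine hset (tw := c :: w) (fun d hd => ?_) (allWords_spec (hcl c hc) hw)
      rcases List.mem_cons.1 hd with rfl | hd
      · exact hg _ hc
      · exact isWord_valid h hw d hd
    | one => intro τ hτ; rwa [one_mul]
    | mul a b _ _ ha hb => intro τ hτ; rw [mul_assoc]; exact ha _ (hb τ hτ)
    | inv a _ ha =>
      intro τ hτ
      have hbij : Set.MapsTo (fun τ => a * τ) (wordSet n L) (wordSet n L) := fun τ hτ => ha τ hτ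
      obtain ⟨υ, hυ, e⟩ : ∃ υ ∈ wordSet n L, a * υ = τ := by
        have he : (fun τ => a * τ) '' wordSet n L = wordSet n L :=
          Set.eq_of_subset_of_ncard_le hbij.image_subset
            (le_of_eq (Set.ncard_image_of_injective _ (mul_right_injective a)).symm) (Set.toFinite _)
        rw [← he] at hτ
        exact hτ
      rw [show a⁻¹ * τ = υ by rw [← e, inv_mul_cancel_left]]
      exact hυ
  intro σ hσ
  simpa using hmul σ hσ 1 hone

end CfsgLib.KnownA.PermCert
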