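import Cfsg.Agent.Lib.KnownA.HSModel.Member
import Cfsg.Agent.Lib.KnownA.HSModel.Invol.Data
import Cfsg.Agent.Lib.KnownA.HSModel.Invol.Words

/-!
The finite checks about involutions of the Higman–Sims group.
-/

set_option autoImplicit false
set_option maxRecDepth 100000

namespace CfsgLib.KnownA.HSModel.Invol

open CfsgLib.KnownA.PermCert

/-- The seeds are even symmetries. -/
def seedsOK : Bool := seeds.all fun e => evenOK e.1 e.2

/-- The program. -/
def prog : Option (List ℕ) := slpRun 100 ops (seeds.map Prod.fst)

/-- The elements in use come out of the program. -/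
def progHas : Bool :=
  match prog with
  | none => false
  | some F => (sylowChain ++ centChain).all (fun e => e.2.all fun c => F.any (Nat.beq c)) &&
      classes.all (fun e => F.any (Nat.beq e.1) && F.any (Nat.beq e.2)) &&
      ([tA, uB, aCode, pCode, qCode, yCode] ++ sylowGens).all fun c => F.any (Nat.beq c)

/-- A word has a fixed point. -/
def hasFix (w : List ℕ) : Bool := (List.range 100).any fun i => Nat.beq (actW w i) i

/-- The properties of the named elements. -/
def namedOK : Bool :=
  eqW 100 [tA, tA] [] && !(eqW 100 [tA] []) && hasFix [tA] &&
  eqW 100 [uB, uB] [] && !(hasFix [uB]) &&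
  eqW 100 [aCode, aCode] [] && !(hasFix [aCode, uB]) && !(hasFix [tA, uB]) &&
  eqW 100 [tA, uB] [uB, tA] && eqW 100 [aCode, uB] [uB, aCode] && eqW 100 [yCode, tA] [aCode, yCode] &&
  eqW 100 [pCode, pCode, pCode] [] && eqW 100 [qCode, qCode, qCode] [] && eqW 100 [pCode, qCode] [qCode, pCode] &&
  eqW 100 [pCode, uB] [uB, pCode] && eqW 100 [qCode, uB] [uB, qCode] &&
  !(eqW 100 [pCode] []) && !(eqW 100 [qCode] []) && !(eqW 100 [qCode] [pCode]) && !(eqW 100 [qCode] [pCode, pCode])

/-- The chains. -/
def chainsOK : Bool :=
  chainOK 100 [] sylowChain && Nat.beq (chainProd sylowChain) 512 &&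
  chainOK 100 [] centChain && Nat.beq (chainProd centChain) 7680 &&
  (centChain.all fun e => e.2.all fun c => eqW 100 [c, tA] [tA, c]) &&
  sylowGens.all (valid 100) && sift 100 sylowChain [] [] &&
  (sylowChain.all fun e => e.2.all fun c => valid 100 c)

/-- The Sylow words are closed under the generators. -/
def closedOK : Bool := sylowGens.all fun g => allWords sylowChain fun w => sift 100 sylowChain [] (g :: w)

/-- Every involution of the Sylow subgroup is conjugate in it to a listed one. -/
def coverOK : Bool :=
  allWords sylowChain fun w => !(eqW 100 (w ++ w) []) || eqW 100 w [] ||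
    classes.any fun e => anyWord sylowChain fun v => eqW 100 (v ++ w) (e.1 :: v)

/-- The listed involutions are conjugate to the two named ones. -/
def classesOK : Bool :=
  classes.all fun e => eqW 100 [e.2, e.1] [tA, e.2] || eqW 100 [e.2, e.1] [uB, e.2]

/-- No element of the centraliser of the second involution carries the first to the third. -/
def apartOK : Bool :=
  allWords centChain fun w => !(eqW 100 (yCode :: (w ++ [uB])) (uB :: yCode :: w))

/-- The roots of `1` and of the second involution in the joint centraliser. -/
def rootsOK : Bool :=
  allWords centChain fun w => !(eqW 100 (w ++ [uB]) (uB :: w)) ||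
    !(eqW 100 (w ++ w) [] || eqW 100 (w ++ w) [uB]) || eqW 100 w [] || eqW 100 w [uB] ||
    (eqW 100 (w ++ w) [] && hasFix w) ||
    (eqW 100 (w ++ [uB] ++ (w ++ [uB])) [] && hasFix (w ++ [uB]))

theorem seeds_ok : seedsOK = true := by decide +kernel

theorem prog_ok : progHas = true := by decide +kernel

theorem named_ok : namedOK = true := by decide +kernel

theorem chains_ok : chainsOK = true := by decide +kernel

theorem closed_ok : closedOK = true := by decide +kernel

theorem cover_ok : coverOK = true := by decide +kernel

theorem classes_ok : classesOK = true := by decide +kernel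

theorem apart_ok : apartOK = true := by decide +kernel

theorem roots_ok : rootsOK = true := by decide +kernel

end CfsgLib.KnownA.HSModel.Invol
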