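import Cfsg.Agent.Lib.KnownA.HSModel.Invol.Sylow

/-!
Involutions of the numbered Higman–Sims group: two classes, and facts about their centralisers.
-/

set_option autoImplicit false
set_option maxRecDepth 100000

namespace CfsgLib.KnownA.HSModel.Invol

open CfsgLib.KnownA.PermCert

local notation "π" => permOf 100

theorem seed_mem : ∀ c ∈ seeds.map Prod.fst, valid 100 c = true ∧ π c ∈ hsPermGroup := by
  intro c hc
  obtain ⟨e, he, rfl⟩ := List.mem_map.1 hc
  have h := List.all_eq_true.1 seeds_ok e he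
  refine ⟨?_, mem_of_evenOK h⟩
  simp only [evenOK, autOK, Bool.and_eq_true] at h
  exact h.1.1.1

theorem prog_mem : ∃ F : List ℕ, (∀ c ∈ F, valid 100 c = true ∧ π c ∈ hsPermGroup) ∧
    (∀ e ∈ sylowChain ++ centChain, ∀ c ∈ e.2, c ∈ F) ∧ (∀ e ∈ classes, e.1 ∈ F ∧ e.2 ∈ F) ∧
    ∀ c ∈ ([tA, uB, aCode, pCode, qCode, yCode] ++ sylowGens : List ℕ), c ∈ F := by
  have h := prog_ok
  unfold progHas at h
  cases hF : prog with
  | none => rw [hF] at h; exact absurd h (by decide)
  | some F =>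
    rw [hF] at h
    simp only [Bool.and_eq_true, List.all_eq_true, List.any_eq_true] at h
    have key : ∀ c, (∃ d ∈ F, Nat.beq c d = true) → c ∈ F := fun c ⟨d, hd, e⟩ => Nat.eq_of_beq_eq_true e ▸ hd
    exact ⟨F, slpRun_sound _ seed_mem hF, fun e he c hc => key c (h.1.1 e he c hc),
      fun e he => ⟨key _ (h.1.2 e he).1, key _ (h.1.2 e he).2⟩, fun c hc => key c (h.2 c hc)⟩

theorem named_mem {c : ℕ} (hc : c ∈ [tA, uB, aCode, pCode, qCode, yCode]) :
    valid 100 c = true ∧ π c ∈ hsPermGroup := by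
  obtain ⟨F, hF, -, -, hn⟩ := prog_mem
  exact hF c (hn c (List.mem_append_left _ hc))

theorem chain_mem : ∀ e ∈ sylowChain ++ centChain, ∀ c ∈ e.2, valid 100 c = true ∧ π c ∈ hsPermGroup := by
  obtain ⟨F, hF, hc, -, -⟩ := prog_mem
  exact fun e he c h => hF c (hc e he c h)

theorem class_mem : ∀ e ∈ classes,
    (valid 100 e.1 = true ∧ π e.1 ∈ hsPermGroup) ∧ valid 100 e.2 = true ∧ π e.2 ∈ hsPermGroup := by
  obtain ⟨F, hF, -, hc, -⟩ := prog_mem
  exact fun e he => ⟨hF _ (hc e he).1, hF _ (hc e he).2⟩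

theorem sylow_chainOK : chainOK 100 [] sylowChain = true := by
  have := chains_ok
  simp only [chainsOK, Bool.and_eq_true] at this
  exact this.1.1.1.1.1.1.1

theorem cent_chainOK : chainOK 100 [] centChain = true := by
  have := chains_ok
  simp only [chainsOK, Bool.and_eq_true] at this
  exact this.1.1.1.1.1.2

theorem sylow_prod : chainProd sylowChain = 512 := by
  have := chains_ok
  simp only [chainsOK, Bool.and_eq_true] at this
  exact Nat.eq_of_beq_eq_true this.1.1.1.1.1.1.2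

theorem cent_prod : chainProd centChain = 7680 := by
  have := chains_ok
  simp only [chainsOK, Bool.and_eq_true] at this
  exact Nat.eq_of_beq_eq_true this.1.1.1.1.2

theorem cent_comm : ∀ e ∈ centChain, ∀ c ∈ e.2, π c * π tA = π tA * π c := by
  intro e he c hc
  have := chains_ok
  simp only [chainsOK, Bool.and_eq_true, List.all_eq_true] at this
  have hv := (chain_mem e (List.mem_append_right _ he) c hc).1
  have ht := (named_mem (c := tA) (by simp)).1
  simpa [prodW] using (eqW_iff (by simp [hv, ht]) (by simp [hv, ht])).1 (this.1.1.1.2 e he c hc)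

/-- Elements with fixed points. -/
def HasFixed (σ : Equiv.Perm (Fin 100)) : Prop := ∃ i, σ i = i

theorem hasFixed_conj {σ τ : Equiv.Perm (Fin 100)} (h : HasFixed σ) : HasFixed (τ * σ * τ⁻¹) := by
  obtain ⟨i, hi⟩ := h
  exact ⟨τ i, by simp [hi]⟩

theorem hasFix_iff {w : List ℕ} (hw : ∀ c ∈ w, valid 100 c = true) :
    hasFix w = true ↔ HasFixed (prodW 100 w) := by
  simp only [hasFix, List.any_eq_true, List.mem_range]
  constructor
  · rintro ⟨i, hi, e⟩
    exact ⟨⟨i, hi⟩, Fin.ext (by rw [prodW_val hw]; exact Nat.eq_of_beq_eq_true e)⟩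
  · rintro ⟨i, hi⟩
    refine ⟨i, i.2, ?_⟩
    rw [← prodW_val hw, hi]
    exact Nat.beq_refl _

theorem named : π tA * π tA = 1 ∧ π tA ≠ 1 ∧ HasFixed (π tA) ∧ π uB * π uB = 1 ∧ ¬ HasFixed (π uB) ∧
    π aCode * π aCode = 1 ∧ ¬ HasFixed (π aCode * π uB) ∧ ¬ HasFixed (π tA * π uB) ∧
    π tA * π uB = π uB * π tA ∧ π aCode * π uB = π uB * π aCode ∧ π yCode * π tA = π aCode * π yCode ∧
    π pCode ^ 3 = 1 ∧ π qCode ^ 3 = 1 ∧ π pCode * π qCode = π qCode * π pCode ∧
    π pCode * π uB = π uB * π pCode ∧ π qCode * π uB = π uB * π qCode ∧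
    π pCode ≠ 1 ∧ π qCode ≠ 1 ∧ π qCode ≠ π pCode ∧ π qCode ≠ π pCode ^ 2 := by
  have h := named_ok
  simp only [namedOK, Bool.and_eq_true, Bool.not_eq_true'] at h
  have hv : ∀ c ∈ [tA, uB, aCode, pCode, qCode, yCode], valid 100 c = true := fun c hc => (named_mem hc).1
  simp only [List.mem_cons, List.not_mem_nil, or_false, forall_eq_or_imp, forall_eq] at hv
  obtain ⟨v1, v2, v3, v4, v5, v6⟩ := hv
  obtain ⟨⟨⟨⟨⟨⟨⟨⟨⟨⟨⟨⟨⟨⟨⟨⟨⟨⟨⟨h1, h2⟩, h3⟩, h4⟩, h5⟩, h6⟩, h7⟩, h8⟩, h9⟩, h10⟩, h11⟩, h12⟩, h13⟩, h14⟩, h15⟩,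
    h16⟩, h17⟩, h18⟩, h19⟩, h20⟩ := h
  have he : ∀ {L L' : List ℕ}, eqW 100 L L' = true → (∀ c ∈ L, valid 100 c = true) →
      (∀ c ∈ L', valid 100 c = true) → prodW 100 L = prodW 100 L' := fun e a b => (eqW_iff a b).1 e
  have hn : ∀ {L L' : List ℕ}, eqW 100 L L' = false → (∀ c ∈ L, valid 100 c = true) →
      (∀ c ∈ L', valid 100 c = true) → prodW 100 L ≠ prodW 100 L' := fun e a b e' => by
    rw [(eqW_iff a b).2 e'] at e; exact absurd e (by decide)
  have hf : ∀ {L : List ℕ}, hasFix L = false → (∀ c ∈ L, valid 100 c = true) → ¬ HasFixed (prodW 100 L) :=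
    fun e a e' => by rw [(hasFix_iff a).2 e'] at e; exact absurd e (by decide)
  refine ⟨?_, ?_, ?_, ?_, ?_, ?_, ?_, ?_, ?_, ?_, ?_, ?_, ?_, ?_, ?_, ?_, ?_, ?_, ?_, ?_⟩
  · simpa [prodW] using he h1 (by simp [v1]) (by simp)
  · simpa [prodW] using hn h2 (by simp [v1]) (by simp)
  · simpa [prodW] using (hasFix_iff (w := [tA]) (by simp [v1])).1 h3
  · simpa [prodW] using he h4 (by simp [v2]) (by simp)
  · simpa [prodW] using hf h5 (by simp [v2])
  · simpa [prodW] using he h6 (by simp [v3]) (by simp)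
  · simpa [prodW] using hf h7 (by simp [v3, v2])
  · simpa [prodW] using hf h8 (by simp [v1, v2])
  · simpa [prodW] using he h9 (by simp [v1, v2]) (by simp [v1, v2])
  · simpa [prodW] using he h10 (by simp [v3, v2]) (by simp [v3, v2])
  · simpa [prodW] using he h11 (by simp [v1, v6]) (by simp [v3, v6])
  · simpa [prodW, pow_succ, mul_assoc] using he h12 (by simp [v4]) (by simp)
  · simpa [prodW, pow_succ, mul_assoc] using he h13 (by simp [v5]) (by simp)
  · simpa [prodW] using he h14 (by simp [v4, v5]) (by simp [v4, v5])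
  · simpa [prodW] using he h15 (by simp [v4, v2]) (by simp [v4, v2])
  · simpa [prodW] using he h16 (by simp [v5, v2]) (by simp [v5, v2])
  · simpa [prodW] using hn h17 (by simp [v4]) (by simp)
  · simpa [prodW] using hn h18 (by simp [v5]) (by simp)
  · simpa [prodW] using hn h19 (by simp [v5]) (by simp [v4])
  · simpa [prodW, pow_succ, mul_assoc] using hn h20 (by simp [v5]) (by simp [v4])

theorem uB_ne : π uB ≠ 1 := fun e => named.2.2.2.2.1 ⟨0, by rw [e]; rfl⟩

theorem ncard_wordSet_le : ∀ {L : List (ℕ × List ℕ)}, (wordSet 100 L).ncard ≤ chainProd L := by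
  intro L
  induction L with
  | nil =>
    refine le_trans (Set.ncard_le_ncard (t := {1}) ?_ (Set.toFinite _)) (by simp [chainProd])
    rintro _ ⟨w, hw, rfl⟩
    rw [IsWord] at hw; subst hw; rfl
  | cons bT L ih =>
    obtain ⟨b, T⟩ := bT
    refine le_trans (Set.ncard_le_ncard (t := (fun q : Equiv.Perm (Fin 100) × Equiv.Perm (Fin 100) =>
      q.1 * q.2) '' (({x | ∃ c ∈ T, π c = x}) ×ˢ wordSet 100 L)) ?_ (Set.toFinite _)) ?_
    · rintro _ ⟨w, ⟨c, hc, w', hw', rfl⟩, rfl⟩
      exact ⟨(π c, prodW 100 w'), ⟨⟨c, hc, rfl⟩, w', hw', rfl⟩, rfl⟩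
    · refine le_trans (Set.ncard_image_le (Set.toFinite _)) ?_
      rw [Set.ncard_prod]
      refine Nat.mul_le_mul ?_ ih
      have e : {x | ∃ c ∈ T, π c = x} = ((T.map π).toFinset : Set (Equiv.Perm (Fin 100))) := by
        ext x; simp
      rw [e, Set.ncard_coe_finset]
      exact le_trans (List.toFinset_card_le _) (by simp)

/-- Two classes of involutions. -/
theorem classify {x : Equiv.Perm (Fin 100)} (hx : x ∈ hsPermGroup) (hxx : x * x = 1) (hx1 : x ≠ 1) :
    ∃ g ∈ hsPermGroup, g * π tA * g⁻¹ = x ∨ g * π uB * g⁻¹ = x := by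
  classical
  have : Fact (Nat.Prime 2) := ⟨Nat.prime_two⟩
  obtain ⟨F, hF, -, -, hsg⟩ := prog_mem
  have hgv : ∀ c ∈ sylowGens, valid 100 c = true ∧ π c ∈ hsPermGroup :=
    fun c hc => hF c (hsg c (List.mem_append_right _ hc))
  have hs : sift 100 sylowChain [] [] = true := by
    have := chains_ok
    simp only [chainsOK, Bool.and_eq_true] at this
    exact this.1.2
  have hsub := card_genGroup_le (gens := sylowGens) sylow_chainOK hs
    (List.all_eq_true.2 fun c hc => (hgv c hc).1) closed_ok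
  have hone : ∀ {w : List ℕ}, IsWord sylowChain w → prodW 100 w ∈ hsPermGroup := fun hw =>
    isWord_mem hsPermGroup (fun e he c hc => (chain_mem e (List.mem_append_left _ he) c hc).2) hw
  -- a Sylow subgroup whose elements are words
  obtain ⟨P, hP⟩ : ∃ P, P = genGroup 100 sylowGens := ⟨_, rfl⟩
  have hPK : P ≤ hsPermGroup := hP ▸ genGroup_le fun c hc => (hgv c hc).2
  have hPs : ∀ y ∈ P, ∃ w, IsWord sylowChain w ∧ prodW 100 w = y := fun y hy => hsub (hP ▸ hy)
  have hcl : ∀ y ∈ P, y * y = 1 → y ≠ 1 →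
      ∃ g ∈ hsPermGroup, g * π tA * g⁻¹ = y ∨ g * π uB * g⁻¹ = y := by
    intro y hy hyy hy1
    obtain ⟨w, hw, rfl⟩ := hPs y hy
    have hwv := isWord_valid sylow_chainOK hw
    have h := allWords_spec cover_ok hw
    simp only [Bool.or_eq_true, Bool.not_eq_true', List.any_eq_true] at h
    rcases h with (h | h) | ⟨e, he, h⟩
    · rw [(eqW_iff (by simp; exact hwv) (by simp)).2
        (by rw [prodW, List.map_append, List.prod_append]; exact hyy)] at h
      exact absurd h (by decide)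
    · exact absurd ((eqW_iff hwv (by simp)).1 h) hy1
    · obtain ⟨v, hv, h⟩ := anyWord_spec h
      have hvv := isWord_valid sylow_chainOK hv
      obtain ⟨⟨hr, hrK⟩, hwv', hwK⟩ := class_mem e he
      have h1 : prodW 100 v * prodW 100 w = π e.1 * prodW 100 v := by
        have := (eqW_iff (by simp only [List.mem_append]; rintro c (hc | hc); exacts [hvv c hc, hwv c hc])
          (by simpa [hr] using hvv)).1 h
        simpa [prodW] using this
      obtain ⟨s, hs, h2⟩ : ∃ s, (s = tA ∨ s = uB) ∧ π e.2 * π e.1 = π s * π e.2 := by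
        have := List.all_eq_true.1 classes_ok e he
        simp only [Bool.or_eq_true] at this
        rcases this with h2 | h2
        · exact ⟨tA, Or.inl rfl, by
            simpa [prodW] using (eqW_iff (by simp [hwv', hr]) (by simp [hwv', (named_mem (c := tA) (by simp)).1])).1 h2⟩
        · exact ⟨uB, Or.inr rfl, by
            simpa [prodW] using (eqW_iff (by simp [hwv', hr]) (by simp [hwv', (named_mem (c := uB) (by simp)).1])).1 h2⟩
      refine ⟨(prodW 100 v)⁻¹ * (π e.2)⁻¹, mul_mem (inv_mem (hone hv)) (inv_mem hwK), ?_⟩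
      have hkey : (prodW 100 v)⁻¹ * (π e.2)⁻¹ * π s * ((prodW 100 v)⁻¹ * (π e.2)⁻¹)⁻¹ = prodW 100 w := by
        calc (prodW 100 v)⁻¹ * (π e.2)⁻¹ * π s * ((prodW 100 v)⁻¹ * (π e.2)⁻¹)⁻¹
            = (prodW 100 v)⁻¹ * (π e.2)⁻¹ * (π s * π e.2) * prodW 100 v := by group
          _ = (prodW 100 v)⁻¹ * (π e.1 * prodW 100 v) := by rw [← h2]; group
          _ = prodW 100 w := by rw [← h1]; group
      rcases hs with rfl | rfl
      · exact Or.inl hkey
      · exact Or.inr hkey
  have hsmem : ∀ e ∈ sylowChain, ∀ c ∈ e.2, π c ∈ P := by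
    intro e he c hc
    have h := List.all_eq_true.1 (List.all_eq_true.1 sylow_reach e he) c hc
    simp only [List.any_eq_true, Bool.and_eq_true, List.all_eq_true, Nat.blt_eq] at h
    obtain ⟨w, -, hw, h⟩ := h
    have hmem : ∀ d ∈ w.map (fun i => sylowGens.getD i 0), d ∈ sylowGens := by
      intro d hd
      obtain ⟨i, hi, rfl⟩ := List.mem_map.1 hd
      rw [List.getD_eq_getElem _ _ (hw i hi)]
      exact List.getElem_mem _
    have hv : ∀ d ∈ [c], valid 100 d = true := by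
      intro d hd; rw [List.mem_singleton.1 hd]; exact (chain_mem e (List.mem_append_left _ he) c hc).1
    rw [show π c = prodW 100 [c] by simp [prodW], (eqW_iff hv fun d hd => (hgv d (hmem d hd)).1).1 h, hP, prodW]
    refine list_prod_mem fun d hd => ?_
    obtain ⟨d0, hd0, rfl⟩ := List.mem_map.1 hd
    exact mem_genGroup (hmem d0 hd0)
  have hcard : Nat.card P = 512 := by
    refine le_antisymm ?_ ?_
    · rw [← sylow_prod, ← SetLike.coe_sort_coe, Nat.card_coe_set_eq]
      exact (Set.ncard_le_ncard (hP ▸ hsub) (Set.toFinite _)).trans ncard_wordSet_le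
    · rw [← sylow_prod]
      exact card_ge_chain P sylow_chainOK hsmem P (fun σ => by simp)
  -- Sylow's theorem
  obtain ⟨z, hz⟩ : ∃ z : hsPermGroup, z = ⟨x, hx⟩ := ⟨_, rfl⟩
  have hz2 : z ^ 2 ^ 1 = 1 := by
    rw [hz, pow_one, pow_two]; exact Subtype.ext hxx
  have hzp : IsPGroup 2 (Subgroup.zpowers z) := by
    rintro ⟨y, hy⟩
    obtain ⟨k, rfl⟩ := Subgroup.mem_zpowers_iff.1 hy
    refine ⟨1, Subtype.ext ?_⟩
    show (z ^ k) ^ 2 ^ 1 = 1
    rw [← zpow_natCast, ← zpow_mul, mul_comm, zpow_mul, zpow_natCast, hz2, one_zpow]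
  obtain ⟨Q, hQ⟩ := hzp.exists_le_sylow
  have hP0 : Nat.card (P.subgroupOf hsPermGroup) = 2 ^ 9 := by
    rw [Nat.card_congr (Subgroup.subgroupOfEquivOfLe hPK).toEquiv, hcard]
    norm_num
  obtain ⟨R, hR⟩ := (IsPGroup.of_card hP0).exists_le_sylow
  have hRle : Nat.card (R : Subgroup hsPermGroup) ≤ 2 ^ 9 := by
    obtain ⟨k, hk⟩ := IsPGroup.iff_card.1 R.isPGroup'
    have hd : 2 ^ k ∣ 2 ^ 9 * 86625 := by
      have := Subgroup.card_subgroup_dvd_card (R : Subgroup hsPermGroup)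
      rwa [hk, card_hsPermGroup] at this
    rw [hk]
    exact Nat.le_of_dvd (by norm_num)
      ((Nat.Coprime.pow_left k (show Nat.Coprime 2 86625 by norm_num)).dvd_of_dvd_mul_right hd)
  have hRP : P.subgroupOf hsPermGroup = (R : Subgroup hsPermGroup) :=
    Subgroup.eq_of_le_of_card_ge hR (hRle.trans hP0.ge)
  obtain ⟨g, hg⟩ := MulAction.exists_smul_eq hsPermGroup R Q
  have hzQ : z ∈ (Q : Subgroup hsPermGroup) := hQ (Subgroup.mem_zpowers z)
  rw [← hg, Sylow.coe_subgroup_smul, Subgroup.mem_pointwise_smul_iff_inv_smul_mem, ← hRP,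
    Subgroup.mem_subgroupOf] at hzQ
  have hval : ((MulAut.conj g)⁻¹ • z : hsPermGroup).1 = (g.1)⁻¹ * x * g.1 := by
    rw [hz]; rfl
  rw [hval] at hzQ
  obtain ⟨p, hp, h⟩ := hcl _ hzQ
    (by rw [show (g.1)⁻¹ * x * g.1 * ((g.1)⁻¹ * x * g.1) = (g.1)⁻¹ * (x * x) * g.1 by group, hxx]; group)
    (fun e => hx1 (by rw [show x = g.1 * ((g.1)⁻¹ * x * g.1) * (g.1)⁻¹ by group, e]; group))
  refine ⟨g.1 * p, mul_mem g.2 hp, ?_⟩
  refine h.imp (fun e => ?_) (fun e => ?_) <;>
    · rw [show ∀ s, g.1 * p * s * (g.1 * p)⁻¹ = g.1 * (p * s * p⁻¹) * (g.1)⁻¹ from fun s => by group, e]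
      group

theorem fixed_tA : HasFixed (π tA) := named.2.2.1

/-- An involution with a fixed point is a conjugate of the first. -/
theorem conj_of_fixed {x : Equiv.Perm (Fin 100)} (hx : x ∈ hsPermGroup) (hxx : x * x = 1) (hx1 : x ≠ 1)
    (hf : HasFixed x) : ∃ g ∈ hsPermGroup, g * π tA * g⁻¹ = x := by
  obtain ⟨g, hg, e | e⟩ := classify hx hxx hx1
  · exact ⟨g, hg, e⟩
  · have := hasFixed_conj (τ := g⁻¹) hf
    rw [← e, show g⁻¹ * (g * π uB * g⁻¹) * g⁻¹⁻¹ = π uB by group] at this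
    exact absurd this named.2.2.2.2.1

theorem tA_mem : π tA ∈ hsPermGroup := (named_mem (by simp)).2

theorem uB_mem : π uB ∈ hsPermGroup := (named_mem (by simp)).2

theorem a_mem : π aCode ∈ hsPermGroup := (named_mem (by simp)).2

theorem y_mem : π yCode ∈ hsPermGroup := (named_mem (by simp)).2

/-- The centraliser of the first involution. -/
noncomputable def centT : Subgroup (Equiv.Perm (Fin 100)) :=
  hsPermGroup ⊓ Subgroup.centralizer {π tA}

theorem mem_centT {σ : Equiv.Perm (Fin 100)} : σ ∈ centT ↔ σ ∈ hsPermGroup ∧ σ * π tA = π tA * σ := by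
  simp [centT, Subgroup.mem_inf, Subgroup.mem_centralizer_singleton_iff]

theorem centT_word (hc : Nat.card centT = 7680) {σ : Equiv.Perm (Fin 100)} (hσ : σ ∈ centT) :
    ∃ w, IsWord centChain w ∧ prodW 100 w = σ :=
  exists_word centT cent_chainOK
    (fun e he c h => mem_centT.2 ⟨(chain_mem e (List.mem_append_right _ he) c h).2, cent_comm e he c h⟩)
    (by rw [hc, cent_prod]) hσ

theorem apart (hc : Nat.card centT = 7680) {g : Equiv.Perm (Fin 100)} (hg : g ∈ hsPermGroup)
    (hgu : g * π uB = π uB * g) : g * π tA * g⁻¹ ≠ π aCode := by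
  intro e
  have hy := named.2.2.2.2.2.2.2.2.2.2.1
  obtain ⟨w, hw, hwe⟩ := centT_word hc (σ := (π yCode)⁻¹ * g) (mem_centT.2 ⟨mul_mem (inv_mem y_mem) hg, by
    calc (π yCode)⁻¹ * g * π tA = (π yCode)⁻¹ * (g * π tA * g⁻¹) * g := by group
      _ = (π yCode)⁻¹ * (π aCode * π yCode) * (π yCode)⁻¹ * g := by rw [e]; group
      _ = π tA * ((π yCode)⁻¹ * g) := by rw [← hy]; group⟩)
  have hwv := isWord_valid cent_chainOK hw
  have hyv := (named_mem (c := yCode) (by simp)).1
  have huv := (named_mem (c := uB) (by simp)).1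
  have h := allWords_spec apart_ok hw
  simp only [Bool.not_eq_true'] at h
  rw [(eqW_iff (by simp; exact ⟨hyv, fun c hc => hc.elim (hwv c) fun e => e ▸ huv⟩)
    (by simp; exact ⟨huv, hyv, hwv⟩)).2 ?_] at h
  · exact absurd h (by decide)
  have hw' : (w.map π).prod = (π yCode)⁻¹ * g := hwe
  simp only [prodW, List.map_cons, List.map_append, List.map_nil, List.prod_cons, List.prod_append, List.prod_nil,
    mul_one, hw']
  calc π yCode * ((π yCode)⁻¹ * g * π uB) = g * π uB := by group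
    _ = π uB * g := hgu
    _ = π uB * (π yCode * ((π yCode)⁻¹ * g)) := by group

theorem roots (hc : Nat.card centT = 7680) {z : Equiv.Perm (Fin 100)} (hz : z ∈ hsPermGroup)
    (hzt : z * π tA = π tA * z) (hzu : z * π uB = π uB * z) (hsq : z * z = 1 ∨ z * z = π uB)
    (h1 : z ≠ 1) (hu : z ≠ π uB) :
    (∃ g ∈ hsPermGroup, g * π tA * g⁻¹ = z) ∨ ∃ g ∈ hsPermGroup, g * π tA * g⁻¹ = z * π uB := by
  obtain ⟨w, hw, rfl⟩ := centT_word hc (mem_centT.2 ⟨hz, hzt⟩)
  have hwv := isWord_valid cent_chainOK hw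
  have huv := (named_mem (c := uB) (by simp)).1
  have hu1 : ∀ c ∈ [uB], valid 100 c = true := by simp [huv]
  have happ : ∀ {a b : List ℕ}, (∀ c ∈ a, valid 100 c = true) → (∀ c ∈ b, valid 100 c = true) →
      ∀ c ∈ a ++ b, valid 100 c = true := fun ha hb c hc => (List.mem_append.1 hc).elim (ha c) (hb c)
  have hcons : ∀ c ∈ uB :: w, valid 100 c = true := happ hu1 hwv
  have hprod : ∀ a b : List ℕ, prodW 100 (a ++ b) = prodW 100 a * prodW 100 b := fun a b => by
    simp [prodW]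
  have hsing : prodW 100 [uB] = π uB := by simp [prodW]
  have hnil : prodW 100 [] = 1 := rfl
  have h := allWords_spec roots_ok hw
  simp only [Bool.or_eq_true, Bool.not_eq_true', Bool.and_eq_true] at h
  rcases h with ((((h | h) | h) | h) | ⟨h, hf⟩) | ⟨h, hf⟩
  · rw [(eqW_iff (happ hwv hu1) hcons).2 (by
      rw [hprod, hsing, hzu, show uB :: w = [uB] ++ w from rfl, hprod, hsing])] at h
    exact absurd h (by decide)
  · simp only [Bool.or_eq_false_iff] at h
    rcases hsq with e | e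
    · rw [(eqW_iff (happ hwv hwv) (by simp)).2 (by rw [hprod, e, hnil])] at h
      exact absurd h.1 (by decide)
    · rw [(eqW_iff (happ hwv hwv) hu1).2 (by rw [hprod, e, hsing])] at h
      exact absurd h.2 (by decide)
  · exact absurd ((eqW_iff hwv (by simp)).1 h) (hnil ▸ h1)
  · exact absurd ((eqW_iff hwv hu1).1 h) (hsing.symm ▸ hu)
  · refine Or.inl (conj_of_fixed hz ?_ h1 ((hasFix_iff hwv).1 hf))
    rw [← hprod, (eqW_iff (happ hwv hwv) (by simp)).1 h, hnil]
  · refine Or.inr (conj_of_fixed (mul_mem hz uB_mem) ?_ (fun e => hu ?_) ?_)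
    · rw [← hsing, ← hprod, ← hprod, (eqW_iff (happ (happ hwv hu1) (happ hwv hu1)) (by simp)).1 h, hnil]
    · rw [← mul_one (prodW 100 w), ← named.2.2.2.1, ← mul_assoc, e, one_mul]
    · rw [← hsing, ← hprod]; exact (hasFix_iff (happ hwv hu1)).1 hf

/-- Two commuting elements of order three give nine. -/
theorem nine_dvd_of_pair {M : Type*} [Group M] [Finite M] {p q : M} (hpq : p * q = q * p) (hp : p ^ 3 = 1)
    (hq : q ^ 3 = 1) (hp1 : p ≠ 1) (hq1 : q ≠ 1) (hqp : q ≠ p) (hqp2 : q ≠ p ^ 2) {S : Subgroup M} (hpS : p ∈ S)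
    (hqS : q ∈ S) : 9 ∣ Nat.card S := by
  classical
  have : Fact (Nat.Prime 3) := ⟨Nat.prime_three⟩
  have hop : orderOf p = 3 := orderOf_eq_prime hp hp1
  have hoq : orderOf q = 3 := orderOf_eq_prime hq hq1
  have hnot : q ∉ Subgroup.zpowers p := by
    rw [mem_zpowers_iff_mem_range_orderOf, hop]
    simp only [Finset.mem_image, Finset.mem_range, not_exists, not_and]
    intro k hk e
    interval_cases k
    · exact hq1 (by rw [← e, pow_zero])
    · exact hqp (by rw [← e, pow_one])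
    · exact hqp2 e.symm
  have hcomm : ∀ (a : Subgroup.zpowers p) (b : Subgroup.zpowers q), Commute (a : M) b := by
    rintro ⟨_, ha⟩ ⟨_, hb⟩
    obtain ⟨i, rfl⟩ := Subgroup.mem_zpowers_iff.1 ha
    obtain ⟨j, rfl⟩ := Subgroup.mem_zpowers_iff.1 hb
    exact (show Commute p q from hpq).zpow_zpow i j
  obtain ⟨f, hf⟩ : ∃ f : Subgroup.zpowers p × Subgroup.zpowers q →* M, ∀ x, f x = (x.1 : M) * x.2 :=
    ⟨(Subgroup.zpowers p).subtype.noncommCoprod (Subgroup.zpowers q).subtype hcomm, fun _ => rfl⟩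
  have hinj : Function.Injective f := by
    rw [injective_iff_map_eq_one]
    rintro ⟨⟨a, ha⟩, ⟨b, hb⟩⟩ e
    rw [hf] at e
    change a * b = 1 at e
    have hb1 : b = 1 := by
      by_contra hb1
      have : orderOf b = 3 := by
        have hd := orderOf_dvd_of_mem_zpowers hb
        rw [hoq] at hd
        exact ((Nat.dvd_prime Nat.prime_three).1 hd).resolve_left fun h => hb1 (orderOf_eq_one_iff.1 h)
      have heq : Subgroup.zpowers b = Subgroup.zpowers q :=
        Subgroup.eq_of_le_of_card_ge (Subgroup.zpowers_le.2 hb) (by rw [Nat.card_zpowers, Nat.card_zpowers, this, hoq])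
      have hbp : b ∈ Subgroup.zpowers p := by
        rw [eq_inv_of_mul_eq_one_right e]
        exact inv_mem ha
      exact hnot (Subgroup.zpowers_le.2 hbp (heq ▸ Subgroup.mem_zpowers q))
    rw [hb1, mul_one] at e
    simp [e, hb1]
  have hr : Nat.card f.range = 9 := by
    rw [← Nat.card_congr (MonoidHom.ofInjective hinj).toEquiv, Nat.card_prod, Nat.card_zpowers, Nat.card_zpowers,
      hop, hoq]
  rw [← hr]
  refine Subgroup.card_dvd_of_le ?_
  rintro _ ⟨⟨a, b⟩, rfl⟩
  rw [hf]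
  exact mul_mem (Subgroup.zpowers_le.2 hpS a.2) (Subgroup.zpowers_le.2 hqS b.2)

end CfsgLib.KnownA.HSModel.Invol
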