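import Cfsg.Agent.Lib.KnownA.HSModel.Invol.Checks

/-!
The representatives of the Sylow chain are products of the Sylow generators.
-/

set_option autoImplicit false
set_option maxRecDepth 100000

namespace CfsgLib.KnownA.HSModel.Invol

open CfsgLib.KnownA.PermCert

/-- Words in the positions of the generators. -/
def sylowWords : List (List ℕ) := [
  [], [1, 0, 1], [1, 0, 2, 1], [2, 0, 2, 0, 1], [0, 2, 2, 2, 1, 0, 1], [1, 1, 1, 2, 1, 2], [2, 0, 2, 1, 2, 2], [0, 2, 0, 2, 1, 2, 1],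
  [2, 2, 2, 0], [0, 1, 2, 2], [0, 2, 1, 0, 1, 2, 0], [0, 1, 0, 2, 2, 2], [2, 2, 2, 1], [1, 0, 2, 1, 2, 1, 2], [0, 0, 1], [2, 0, 1, 1, 2, 1],
  [1, 1, 1, 0, 2, 2, 2], [1, 1, 2, 0, 2, 2], [0, 0, 1, 2, 1, 0, 1], [0, 2, 0, 1, 0, 1], [0, 2, 0, 2, 2, 1], [2, 0, 1, 2, 0, 1], [0, 0, 0, 2, 0, 1, 0], [2, 2, 0, 1, 2, 0, 2],
  [0, 0, 2, 2, 1], [0, 1, 0, 1, 2, 1], [1, 0, 1, 1, 2, 0, 1], [0, 0, 0, 1, 0, 2, 0], [0, 0, 1, 0, 2, 2, 1], [0, 1, 2, 1, 2], [0, 0, 2, 0, 2, 1, 0], [1, 0, 2, 0, 1, 2],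
  [0, 1, 0, 2, 2, 1, 2], [2, 2, 2, 1, 0, 1, 2], [0, 1, 1, 1, 0, 1], [2, 1, 2, 1, 2, 2], [2, 0, 2, 0], [0, 2, 0, 1, 2, 0], [0, 0, 2, 1], [2, 2, 0],
  [0, 1, 1, 2, 0], [0, 1, 1, 2, 0, 2], [2, 0, 1, 1, 2, 0], [2, 1, 2, 0, 1, 2], [2, 2, 0, 2, 2, 1], [1, 1, 2, 1], [0, 0, 0, 1, 0, 1, 2, 1], [2, 0, 1, 2],
  [1, 0, 1, 2, 1], [0, 0, 1, 0, 1, 2, 0], [0, 0, 2, 2, 0, 1, 2, 0], [0, 1, 2, 0, 2, 0], [1, 1, 2, 1, 0], [1, 0, 2, 0, 2, 0], [0, 0, 0, 1, 0], [2, 2],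
  [0, 0, 1, 2, 0, 1, 2, 2], [0, 0, 1, 0, 2], [0, 2, 0, 2, 0, 1], [0, 1, 0, 1, 1, 2], [0, 1, 0, 1, 1, 2, 2], [0, 0, 2, 2, 1, 0, 1], [1, 0, 1, 2, 0, 1, 1], [0, 1, 2, 0, 2, 1],
  [], [0, 2, 2, 2], [0, 0, 2, 0, 1, 0, 2], [1, 1, 2, 0], [0, 0, 0, 2, 2, 0, 1], [0, 0, 2, 0, 2, 0], [1, 2, 0, 2, 2], [1, 1, 1, 0, 2]]

/-- Every representative is one of the words. -/
def sylowReach : Bool :=
  sylowChain.all fun e => e.2.all fun c => sylowWords.any fun w =>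
    w.all (fun i => Nat.blt i sylowGens.length) && eqW 100 [c] (w.map fun i => sylowGens.getD i 0)

theorem sylow_reach : sylowReach = true := by decide +kernel

end CfsgLib.KnownA.HSModel.Invol
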